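import Groth.Agent.SGA7Aut29.AntiPow
import Groth.Agent.SGA7Aut29.PowSurj
import Groth.Agent.SGA3cLib.DiagPoints
import Groth.Agent.FlatMor12.FibreFlat
import Groth.Agent.AlgGrpLib.IsogenyBC
import Groth.Agent.NeronModel27.Points
import Groth.Agent.AlgGrpLib.TorsorNormRel
import Groth.Prelude.Def_SGA7IX
import Groth.Agent.GaGmQuot.GaSmooth
import Groth.Prelude.Def_ActBC

/-!
# Multiplication by `m` on a smooth group with connected fibres over a DVR
-/

set_option autoImplicit false
set_option linter.style.haveILetI false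
set_option backward.isDefEq.respectTransparency.types false

universe u

open CategoryTheory CategoryTheory.Limits MonoidalCategory CartesianMonoidalCategory MonObj GrpObj AlgebraicGeometry
open TopologicalSpace

namespace Groth.Agent.SGA7Mul27

section Field

variable {k : Type u} [Field k] [IsAlgClosed k]

/-- The additive group over an algebraically closed field has infinitely many points. -/
theorem not_finite_Ga : ¬ Finite ↥(Red.Ga (Spec (CommRingCat.of k))).left := by
  intro h
  haveI : Smooth (Red.Ga (Spec (CommRingCat.of k))).hom := GaGmQuot.smooth_ga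
  haveI : LocallyOfFiniteType (Red.Ga (Spec (CommRingCat.of k))).hom := inferInstance
  choose x hx using fun c : k => SGA3cLib.exists_gaFn
    (X := 𝟙_ (Over (Spec (CommRingCat.of k)))) ((Scheme.ΓSpecIso (CommRingCat.of k)).inv c)
  have hinj : Function.Injective fun c => (x c).left.base (IsLocalRing.closedPoint k) := fun c d hcd => by
    have := congrArg Red.gaFn (AbCubeLib.point_ext (s := x c) (t := x d) hcd)
    rw [hx, hx] at this
    exact (Scheme.ΓSpecIso (CommRingCat.of k)).commRingCatIsoToRingEquiv.symm.injective this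
  exact (Finite.of_injective _ hinj).false

/-- A group killed by `n` after an additive group: if `n = 0` in `k`, no additive subgroup when `[n]` has finite fibres. -/
theorem no_Ga_of_lqf (G : Over (Spec (CommRingCat.of k))) [GrpObj G] [LocallyOfFiniteType G.hom]
    [QuasiCompact G.hom] {n : ℕ} (hn : (n : k) = 0) [LocallyQuasiFinite ((𝟙 G : G ⟶ G) ^ n).left]
    [QuasiCompact ((𝟙 G : G ⟶ G) ^ n).left]
    (j : Red.Ga (Spec (CommRingCat.of k)) ⟶ G) (hj : IsMonHom j) (hc : IsClosedImmersion j.left) : False := by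
  haveI := hj; haveI := hc
  refine not_finite_Ga (k := k) ?_
  have hkill : ∀ {T : Over (Spec (CommRingCat.of k))} (x : T ⟶ Red.Ga (Spec (CommRingCat.of k))), x ^ n = 1 := by
    intro T x
    refine SGA3cLib.gaFn_injective ?_
    have e : ∀ i : ℕ, Red.gaFn (x ^ i) = i • Red.gaFn x := fun i => by
      induction i with
      | zero => rw [_root_.pow_zero, SGA3cLib.gaFn_one, zero_smul]
      | succ i ih => rw [pow_succ, SGA3cLib.gaFn_mul, ih, succ_nsmul]
    rw [e, SGA3cLib.gaFn_one, nsmul_eq_mul]
    have h0 := congrArg (fun c => T.hom.appTop ((Scheme.ΓSpecIso (CommRingCat.of k)).inv c)) hn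
    simp only [map_natCast, map_zero] at h0
    rw [h0, zero_mul]
  have hconst : j ≫ (𝟙 G : G ⟶ G) ^ n = toUnit _ ≫ η[G] := by
    rw [SGA7Aut29.comp_pow_id]
    have h1 := @AbCubeLib.pow_comp_hom _ _ _ _ _ _ _ _ (𝟙 (Red.Ga (Spec (CommRingCat.of k)))) j hj n
    rw [hkill, MonObj.one_comp, Category.id_comp] at h1
    rw [← h1, Hom.one_def]
  have hfin : (Set.range j.left.base).Finite := by
    refine (((𝟙 G : G ⟶ G) ^ n).left.finite_preimage_singleton (η[G].left.base (IsLocalRing.closedPoint k))).subset ?_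
    rintro _ ⟨z, rfl⟩
    have h := congrArg (fun f : Red.Ga _ ⟶ G => f.left z) hconst
    simp only [Over.comp_left, Scheme.Hom.comp_apply] at h
    exact h.trans (congrArg _ (Subsingleton.elim (α := PrimeSpectrum k) _ _))
  have := (hfin.preimage j.left.isClosedEmbedding.injective.injOn)
  rw [Set.preimage_range] at this
  exact Set.finite_univ_iff.1 this

/-- No additive subgroup in a proper group. -/
theorem no_Ga_of_proper (G : Over (Spec (CommRingCat.of k))) [IsProper G.hom]
    (j : Red.Ga (Spec (CommRingCat.of k)) ⟶ G) (hc : IsClosedImmersion j.left) : False := by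
  haveI := hc
  refine not_finite_Ga (k := k) ?_
  haveI : IsProper (Red.Ga (Spec (CommRingCat.of k))).hom := by rw [← Over.w j]; infer_instance
  haveI : IsAffine Red.GaZ.{u}.left := inferInstanceAs (IsAffine (Spec _))
  haveI : IsAffineHom Red.GaZ.{u}.hom := isAffineHom_of_isAffine _
  haveI : IsAffineHom (Red.Ga (Spec (CommRingCat.of k))).hom := MorphismProperty.pullback_snd _ _ inferInstance
  haveI : IsFinite (Red.Ga (Spec (CommRingCat.of k))).hom := IsFinite.iff_isProper_and_isAffineHom.2 ⟨‹_›, ‹_›⟩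
  have := (Red.Ga (Spec (CommRingCat.of k))).hom.finite_preimage_singleton (IsLocalRing.closedPoint k)
  exact Set.finite_univ_iff.1 (this.subset fun z _ => Subsingleton.elim (α := PrimeSpectrum k) _ _)

end Field

/-- An open homomorphism to a connected smooth group is surjective. -/
theorem surjective_of_isOpen_range {k : Type u} [Field k] {G : Over (Spec (CommRingCat.of k))} [GrpObj G]
    [Smooth G.hom] [ConnectedSpace G.left] (f : G ⟶ G) [IsMonHom f] [QuasiCompact f.left]
    (h : IsOpen (Set.range f.left.base)) : Surjective f.left := by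
  haveI : IsIntegral G.left := SGA3cLib.SmoothPure.isIntegral_of_smooth_connected G.hom
  exact SGA3Homog26.surjective_of_dominant f
    (h.dense ⟨_, ⟨η[G].left.base (IsLocalRing.closedPoint k), rfl⟩⟩)

theorem map_pow_id {S T : Scheme.{u}} (f : T ⟶ S) (G : Over S) [GrpObj G] (m : ℕ) :
    (Over.pullback f).map ((𝟙 G : G ⟶ G) ^ m) = (𝟙 (Red.bc f G) : Red.bc f G ⟶ _) ^ m := by
  rw [show (Over.pullback f).map ((𝟙 G : G ⟶ G) ^ m) = ((Over.pullback f).map (𝟙 G)) ^ m from
    map_pow (Over.pullback f).homMonoidHom _ m, CategoryTheory.Functor.map_id]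

variable {S : Scheme.{u}} (G : Over S) [GrpObj G] [IsCommMonObj G] [Smooth G.hom] [IsSeparated G.hom]
  [QuasiCompact G.hom]

theorem connected_geomFibre (s : S) [ConnectedSpace (Red.bc (S.fromSpecResidueField s) G).left] :
    ConnectedSpace (Red.geomFibre s G).left := by
  let k := S.residueField s
  haveI : Smooth (Red.bc (S.fromSpecResidueField s) G).hom := MorphismProperty.pullback_snd _ _ ‹_›
  haveI : LocallyOfFiniteType (Red.bc (S.fromSpecResidueField s) G).hom := inferInstance
  let g : Spec (CommRingCat.of (AlgebraicClosure k)) ⟶ Spec (CommRingCat.of k) :=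
    Spec.map (CommRingCat.ofHom (algebraMap k (AlgebraicClosure k)))
  let H : Over (Spec (CommRingCat.of k)) := Red.bc (S.fromSpecResidueField s) G
  haveI : ConnectedSpace H.left := ‹_›
  haveI : GeometricallyConnected H.hom :=
    SGA3cLib.geometricallyConnected_of_rational_point k H.hom (𝟙 H.left) η[H].left (Over.w η[H]) (by simp)
  haveI : ConnectedSpace (Red.bc g H).left :=
    GeometricallyConnected.geometrically_connectedSpace (f := H.hom) g (pullback.fst _ _) (pullback.snd _ _)
      (IsPullback.of_hasPullback _ _)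
  let e := (Over.forget _).mapIso (ActBC.bcCompIso g (S.fromSpecResidueField s) G (d := Red.geomPt s) rfl)
  haveI : ConnectedSpace ↥((Over.forget _).obj (Red.bc g (Red.bc (S.fromSpecResidueField s) G))) :=
    inferInstanceAs (ConnectedSpace (Red.bc g H).left)
  exact e.hom.homeomorph.surjective.connectedSpace e.hom.homeomorph.continuous

variable (m : ℕ)

/-- Surjectivity can be checked on geometric fibres. -/
theorem surjective_of_geomFibres
    (h : ∀ s, Surjective ((𝟙 (Red.geomFibre s G) : Red.geomFibre s G ⟶ _) ^ m).left) :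
    Surjective ((𝟙 G : G ⟶ G) ^ m).left := by
  refine ⟨fun y => ?_⟩
  let s := G.hom y
  haveI := h s
  obtain ⟨y', hy⟩ : y ∈ Set.range (pullback.fst G.hom (Red.geomPt s)) := by
    rw [Scheme.Pullback.range_fst]
    refine ⟨IsLocalRing.closedPoint _, ?_⟩
    simp only [Red.geomPt, Scheme.Hom.comp_apply]
    exact Scheme.fromSpecResidueField_apply _ _
  obtain ⟨x', hx⟩ := ((𝟙 (Red.geomFibre s G) : Red.geomFibre s G ⟶ _) ^ m).left.surjective y'
  refine ⟨pullback.fst G.hom (Red.geomPt s) x', ?_⟩
  have hw := (SGA3UnitSec.isPullback_map_left (Red.geomPt s) ((𝟙 G : G ⟶ G) ^ m)).w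
  rw [map_pow_id] at hw
  rw [← Scheme.Hom.comp_apply, hw, Scheme.Hom.comp_apply, hx, hy]

theorem quasiCompact_pow : QuasiCompact ((𝟙 G : G ⟶ G) ^ m).left :=
  MorphismProperty.of_postcomp (W := @QuasiCompact) (W' := @QuasiSeparated) _ G.hom inferInstance (by rw [Over.w]; infer_instance)

theorem surjective_geom_of_flat [Flat ((𝟙 G : G ⟶ G) ^ m).left] (s : S)
    [ConnectedSpace (Red.bc (S.fromSpecResidueField s) G).left] :
    Surjective ((𝟙 (Red.geomFibre s G) : Red.geomFibre s G ⟶ _) ^ m).left := by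
  haveI : Smooth (Red.geomFibre s G).hom := MorphismProperty.pullback_snd _ _ ‹_›
  haveI := connected_geomFibre G s
  haveI := SGA7Aut29.isMonHom_pow (G := G) m
  haveI := quasiCompact_pow G m
  haveI : LocallyOfFinitePresentation (((𝟙 G : G ⟶ G) ^ m).left ≫ G.hom) := by rw [Over.w]; infer_instance
  haveI := FlatMor12.lfp_of_comp ((𝟙 G : G ⟶ G) ^ m).left G.hom
  have hp := (SGA3UnitSec.isPullback_map_left (Red.geomPt s) ((𝟙 G : G ⟶ G) ^ m)).flip
  haveI : Flat ((Over.pullback (Red.geomPt s)).map ((𝟙 G : G ⟶ G) ^ m)).left :=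
    MorphismProperty.of_isPullback hp.flip ‹_›
  haveI : LocallyOfFinitePresentation ((Over.pullback (Red.geomPt s)).map ((𝟙 G : G ⟶ G) ^ m)).left :=
    MorphismProperty.of_isPullback hp.flip ‹_›
  haveI : QuasiCompact ((Over.pullback (Red.geomPt s)).map ((𝟙 G : G ⟶ G) ^ m)).left :=
    MorphismProperty.of_isPullback hp.flip ‹_›
  haveI : UniversallyOpen ((Over.pullback (Red.geomPt s)).map ((𝟙 G : G ⟶ G) ^ m)).left :=
    UniversallyOpen.of_flat _
  rw [← map_pow_id]
  exact surjective_of_isOpen_range _ (Scheme.Hom.isOpenMap _).isOpen_range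

theorem lqf_of_surjective [Surjective ((𝟙 G : G ⟶ G) ^ m).left]
    (hconn : ∀ s, ConnectedSpace (Red.bc (S.fromSpecResidueField s) G).left) :
    LocallyQuasiFinite ((𝟙 G : G ⟶ G) ^ m).left := by
  haveI := quasiCompact_pow G m
  haveI : LocallyOfFiniteType (((𝟙 G : G ⟶ G) ^ m).left ≫ G.hom) := by rw [Over.w]; infer_instance
  haveI : LocallyOfFiniteType ((𝟙 G : G ⟶ G) ^ m).left := locallyOfFiniteType_of_comp _ G.hom
  refine LocallyQuasiFinite.of_finite_preimage_singleton ((𝟙 G : G ⟶ G) ^ m).left fun y => ?_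
  let s := G.hom y
  haveI := hconn s
  haveI : Smooth (Red.geomFibre s G).hom := MorphismProperty.pullback_snd _ _ ‹_›
  haveI := connected_geomFibre G s
  haveI := SGA7Aut29.isMonHom_pow (G := G) m
  have hp := SGA3UnitSec.isPullback_map_left (Red.geomPt s) ((𝟙 G : G ⟶ G) ^ m)
  haveI : Surjective ((Over.pullback (Red.geomPt s)).map ((𝟙 G : G ⟶ G) ^ m)).left :=
    MorphismProperty.of_isPullback hp ‹_›
  haveI := SGA7Aut29.isFinite_of_surjective (Red.geomFibre s G) ((Over.pullback (Red.geomPt s)).map ((𝟙 G : G ⟶ G) ^ m))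
  obtain ⟨y', hy⟩ : y ∈ Set.range (pullback.fst G.hom (Red.geomPt s)) := by
    rw [Scheme.Pullback.range_fst]
    refine ⟨IsLocalRing.closedPoint _, ?_⟩
    simp only [Red.geomPt, Scheme.Hom.comp_apply]
    exact Scheme.fromSpecResidueField_apply _ _
  refine ((((Over.pullback (Red.geomPt s)).map ((𝟙 G : G ⟶ G) ^ m)).left.finite_preimage_singleton y').image
    (pullback.fst G.hom (Red.geomPt s))).subset fun x hx => ?_
  obtain ⟨x', hx1, hx2⟩ := Scheme.exists_preimage_of_isPullback hp x y' (by rw [hy]; exact hx)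
  exact ⟨x', hx2, hx1⟩

theorem flat_of_surjective [Surjective ((𝟙 G : G ⟶ G) ^ m).left] : Flat ((𝟙 G : G ⟶ G) ^ m).left := by
  haveI : LocallyOfFinitePresentation (((𝟙 G : G ⟶ G) ^ m).left ≫ G.hom) := by rw [Over.w]; infer_instance
  haveI : Flat (((𝟙 G : G ⟶ G) ^ m).left ≫ G.hom) := by rw [Over.w]; infer_instance
  haveI := SGA7Aut29.isMonHom_pow (G := G) m
  refine FlatMor12.flat_of_fibres _ G.hom fun s => ?_
  let f := S.fromSpecResidueField s
  have hp := SGA3UnitSec.isPullback_map_left f ((𝟙 G : G ⟶ G) ^ m)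
  let Gs : Over (Spec (CommRingCat.of (S.residueField s))) := Red.bc f G
  haveI : Smooth Gs.hom := MorphismProperty.pullback_snd _ _ ‹_›
  let us : Gs ⟶ Gs := (Over.pullback f).map ((𝟙 G : G ⟶ G) ^ m)
  haveI : IsMonHom us := inferInstanceAs (IsMonHom ((Over.pullback f).map ((𝟙 G : G ⟶ G) ^ m)))
  haveI : Surjective us.left := MorphismProperty.of_isPullback hp ‹_›
  haveI : Flat us.left := AlgGrpLib.IsogenyBC.flat_of_isogeny (k := S.residueField s) (G := Gs) (H := Gs) us
  have e : pullback.snd ((𝟙 G : G ⟶ G) ^ m).left (pullback.fst G.hom f) = hp.isoPullback.inv ≫ us.left := by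
    rw [Iso.eq_inv_comp]; exact hp.isoPullback_hom_snd
  show Flat (pullback.snd ((𝟙 G : G ⟶ G) ^ m).left (pullback.fst G.hom f))
  rw [e]
  infer_instance

/-- The ring map of a geometric point of an affine scheme detects its prime. -/
theorem geomPt_eq {R : Type u} [CommRing R] (s : Spec (CommRingCat.of R)) :
    ∃ φ : R →+* AlgebraicClosure ((Spec (CommRingCat.of R)).residueField s),
      Red.geomPt s = Spec.map (CommRingCat.ofHom φ) ∧ RingHom.ker φ = s.asIdeal := by
  refine ⟨(Spec.preimage (Red.geomPt s)).hom, (Spec.map_preimage _).symm, ?_⟩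
  have h : (Red.geomPt s).base (IsLocalRing.closedPoint _) = s := by
    simp only [Red.geomPt, Scheme.Hom.comp_apply]
    exact Scheme.fromSpecResidueField_apply _ _
  rw [← Spec.map_preimage (Red.geomPt s)] at h
  conv_rhs => rw [← h]
  show _ = Ideal.comap _ (IsLocalRing.maximalIdeal _)
  rw [IsLocalRing.maximalIdeal_eq_bot]
  rfl

end Groth.Agent.SGA7Mul27

namespace Groth.Agent.SGA7Mul27

variable {S : Scheme.{u}} (G : Over S) [GrpObj G] [IsCommMonObj G] [Smooth G.hom] [IsSeparated G.hom]
  [QuasiCompact G.hom] (m : ℕ)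

theorem fibreURZ_of_lqf (h : LocallyQuasiFinite ((𝟙 G : G ⟶ G) ^ m).left) (s : S)
    (hk : (m : AlgebraicClosure (S.residueField s)) = 0) : SGA7.FibreUnipotentRankZero s G := fun j hj hc => by
  haveI := quasiCompact_pow G m
  have hp := SGA3UnitSec.isPullback_map_left (Red.geomPt s) ((𝟙 G : G ⟶ G) ^ m)
  rw [map_pow_id] at hp
  haveI : LocallyQuasiFinite ((𝟙 (Red.geomFibre s G) : Red.geomFibre s G ⟶ _) ^ m).left :=
    MorphismProperty.of_isPullback hp h
  haveI : QuasiCompact ((𝟙 (Red.geomFibre s G) : Red.geomFibre s G ⟶ _) ^ m).left :=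
    MorphismProperty.of_isPullback hp ‹QuasiCompact ((𝟙 G : G ⟶ G) ^ m).left›
  haveI : Smooth (Red.geomFibre s G).hom := MorphismProperty.pullback_snd _ _ ‹Smooth G.hom›
  haveI : QuasiCompact (Red.geomFibre s G).hom := MorphismProperty.pullback_snd _ _ ‹QuasiCompact G.hom›
  exact no_Ga_of_lqf (Red.geomFibre s G) hk j hj hc

theorem surjective_geom_of_ne_zero (s : S) [ConnectedSpace (Red.bc (S.fromSpecResidueField s) G).left]
    (hk : (m : AlgebraicClosure (S.residueField s)) ≠ 0) :
    Surjective ((𝟙 (Red.geomFibre s G) : Red.geomFibre s G ⟶ _) ^ m).left := by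
  haveI := connected_geomFibre G s
  haveI : Smooth (Red.geomFibre s G).hom := MorphismProperty.pullback_snd _ _ ‹Smooth G.hom›
  haveI := SGA7Aut29.quasiCompact_of_connected (Red.geomFibre s G)
  haveI : IsSeparated (Red.geomFibre s G).hom := SGA3xLib.isSeparated_of_grpObj _
  haveI := SGA7Aut29.isMonHom_pow (G := Red.geomFibre s G) m
  haveI : QuasiCompact ((𝟙 (Red.geomFibre s G) : Red.geomFibre s G ⟶ _) ^ m).left :=
    AlgGrpLib.quasiCompact_left _
  haveI := SGA3Power26.etale_of_isCommMonObj (G := Red.geomFibre s G) (n := m) hk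
  exact surjective_of_isOpen_range _ (Scheme.Hom.isOpenMap _).isOpen_range

theorem surjective_geom_of_noGa (hm : 0 < m) (s : S) [ConnectedSpace (Red.bc (S.fromSpecResidueField s) G).left]
    (h : SGA7.FibreUnipotentRankZero s G) :
    Surjective ((𝟙 (Red.geomFibre s G) : Red.geomFibre s G ⟶ _) ^ m).left := by
  haveI := connected_geomFibre G s
  haveI : Smooth (Red.geomFibre s G).hom := MorphismProperty.pullback_snd _ _ ‹Smooth G.hom›
  exact SGA7Aut29.surjective_pow (Red.geomFibre s G) h hm

omit [IsCommMonObj G] [Smooth G.hom] [IsSeparated G.hom] [QuasiCompact G.hom] in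
/-- A geometric fibre over a point factoring through a proper base change has no additive subgroup. -/
theorem fibreURZ_of_proper {T : Scheme.{u}} (b : T ⟶ S) [IsProper (Red.bc b G).hom] (s : S)
    (g : Spec (CommRingCat.of (AlgebraicClosure (S.residueField s))) ⟶ T) (hgd : g ≫ b = Red.geomPt s) :
    SGA7.FibreUnipotentRankZero s G := fun j _ hc => by
  let e := ActBC.bcCompIso g b G hgd
  haveI : IsProper (Red.bc g (Red.bc b G)).hom := MorphismProperty.pullback_snd _ _ ‹IsProper (Red.bc b G).hom›
  haveI : IsIso e.inv.left := inferInstanceAs (IsIso ((Over.forget _).map e.inv))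
  haveI : IsProper (Red.geomFibre s G).hom := by rw [← Over.w e.inv]; infer_instance
  exact no_Ga_of_proper _ j hc

end Groth.Agent.SGA7Mul27
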